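import Cfsg.Agent.H6.Cert
import Cfsg.Agent.H6.Fi22R.C.B0

set_option autoImplicit false
set_option maxRecDepth 100000
set_option Elab.async false

namespace Cfsg.H6.Fi22R.C

def sg : List (List ℕ) := [[], [1], [2], [3], [4], [5], [6], [7], [8], [9], [10], [11], [1], [1], [3], [3], [4], [4], [5], [5], [6], [6], [7], [7], [8], [8], [9], [9], [10], [10]]

def BL : List ℕ := [0x10c, 0x30e, 0x410, 0x512, 0x614, 0x716, 0x818, 0x91a, 0xa1c, 0x6050408030405060706050403080405060b, 0x2040204, 0x2050205, 0x2060206, 0x2070207, 0x2080208, 0x2090209, 0x1040104, 0x1050105, 0x1060106, 0x1070107, 0x1080108, 0x1090109, 0x10201020102, 0x3050305, 0x3060306, 0x3070307, 0x3080308, 0x3090309, 0x30203020302, 0x3010301, 0x4020402, 0x4060406, 0x4070407, 0x4090409, 0x40304030403, 0x20102010201, 0x20302030203, 0x2030408050403020102030405080403020a, 0x4010401, 0x5020502, 0x5030503, 0x5070507, 0x5090509, 0x50405040504, 0x8020802, 0x8030803, 0x8060806, 0x8070807, 0x80408040804, 0x5010501, 0x6010601, 0x7010701,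 0x8010801, 0x9010901, 0x6020602, 0x7020702, 0x9020902, 0x6030603, 0x7030703, 0x9030903, 0x6040604, 0x9040904, 0x9050905, 0x9060906, 0x9070907, 0x7050705, 0x6090609, 0x60506050605, 0x8050805, 0x90809080908, 0xa0203040805040302010203040508040302, 0x40804080408, 0x202, 0x808, 0x101, 0x303, 0x606, 0x5080508, 0x7080708, 0x80908090809, 0x707, 0x909, 0x70607060706, 0x40504050405, 0x505, 0x50605060506, 0x30403040304, 0x404, 0x7040704, 0x1030103, 0xa0a, 0xb0b, 0x6080608, 0x60706070607, 0x40506080a09040506080a09040506080a09040506080a09, 0x7090709, 0xb0605040803040506070605040308040506, 0x103040506080a03040506080a03040506080a03040506080a03040506080a, 0x0, 0x705040302080b05040302080b05040302080b05040302080b05040302080b, 0xa08060504030a08060504030a08060504030a08060504030a080605040301, 0x90a08060504090a08060504090a08060504090a08060504, 0xb08020304050b08020304050b08020304050b08020304050b080203040507]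

def R : List (List ℕ) := [[1,2,1,2,1,2], [1,3,1,3], [1,4,1,4], [1,5,1,5], [1,6,1,6], [1,7,1,7], [1,8,1,8], [1,9,1,9], [2,3,2,3,2,3], [2,4,2,4], [2,5,2,5], [2,6,2,6], [2,7,2,7], [2,8,2,8], [2,9,2,9], [3,4,3,4,3,4], [3,5,3,5], [3,6,3,6], [3,7,3,7], [3,8,3,8], [3,9,3,9], [4,5,4,5,4,5], [4,6,4,6], [4,7,4,7], [4,8,4,8,4,8], [4,9,4,9], [5,6,5,6,5,6], [5,7,5,7], [5,8,5,8], [5,9,5,9], [6,7,6,7,6,7], [6,8,6,8], [6,9,6,9], [7,8,7,8], [7,9,7,9], [8,9,8,9,8,9], [10,2,3,4,8,5,4,3,2,1,2,3,4,5,8,4,3,2], [11,6,5,4,8,3,4,5,6,7,6,5,4,3,8,4,5,6], [4,5,6,8,10,9,4,5,6,8,10,9,4,5,6,8,10,9,4,5,6,8,10,9], [1,3,4,5,6,8,10,3,4,5,6,8,10,3,4,5,6,8,10,3,4,5,6,8,10,3,4,5,6,8,10], [7,5,4,3,2,8,11,5,4,3,2,8,11,5,4,3,2,8,11,5,4,3,2,8,11,5,4,3,2,8,11]]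

def Sub : List (List ℕ) := [[1], [3], [4], [5], [6], [7], [8], [9], [10]]

theorem hA : prepA 954154417186781389109644624128 R sg 194033485428946281261720279520204206197713286548965397915523557424759040 BL Sub get gd = true := by decide +kernel

theorem hw : allR (okW BL gwh) 0 375 = true := by decide +kernel

theorem hb : ∀ b, 4 ≤ b → b < 2558 → blk get gs (gwB gwh 375) gd 194033485428946281261720279520204206197713286548965397915523557424759040 b = true :=
  (range_join (range_join (allR_range b0 (by norm_num : 4 + 696 = 700)) (allR_range b1 (by norm_num : 700 + 661 = 1361))) (range_join (allR_range b2 (by norm_num : 1361 + 577 = 1938)) (range_join (allR_range b3 (by norm_num : 1938 + 479 = 2417)) (allR_range b4 (by norm_num : 2417 + 141 = 2558)))))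

def X : List (List ℕ) := [[1], [2], [3], [4], [5], [6], [7], [8], [9], [10], [11]]

theorem hC : prepC sg 194033485428946281261720279520204206197713286548965397915523557424759040 X 11 3510 55 = true := by decide +kernel

theorem hc : ∀ t, 0 ≤ t → t < 11 * 55 → clo get gc 3510 163968 55 t = true :=
  (allR_range c0 (by norm_num : 0 + 605 = 605))

theorem cover {G : Type*} [Group G] {ev : ℕ → G} (hev : Good ev 954154417186781389109644624128) (hR : Rels ev R) :
    Cover (gen ev Sub) (gen ev X) 3510 :=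
  cert_cover hev hR hA hC hw hb (by norm_num) hc


end Cfsg.H6.Fi22R.C
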